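import Groth.Prelude.Def_FlatCA
import Mathlib

/-!
# The kernel of the map from a module to its fibre module
-/

set_option autoImplicit false

universe u

open TensorProduct

namespace Groth.FibKer

variable {R S : Type u} [CommRing R] [CommRing S] [Algebra R S] (p : Ideal R) [p.IsPrime]
variable (N : Type u) [AddCommGroup N] [Module S N] [Module R N] [IsScalarTower R S N]

attribute [local instance] Algebra.TensorProduct.rightAlgebra

/-- the comparison to `κ(p) ⊗_R N` -/
noncomputable def toResTensor : (p.Fiber S ⊗[S] N) →+ p.ResidueField ⊗[R] N :=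
  TensorProduct.liftAddHom
    { toFun := fun z =>
        { toFun := fun n =>
            LinearMap.lTensor p.ResidueField ((LinearMap.toSpanSingleton S N n).restrictScalars R) z
          map_zero' := by
            have : (LinearMap.toSpanSingleton S N 0).restrictScalars R = 0 := by ext; simp
            rw [this]; simp
          map_add' := fun a b => by
            rw [← LinearMap.add_apply, ← LinearMap.lTensor_add]
            congr 2
            ext; simp [smul_add] }
      map_zero' := by ext n; simp
      map_add' := fun a b => by ext n; simp }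
    (fun s z n => by
      show LinearMap.lTensor _ _ (s • z) = LinearMap.lTensor _ _ z
      induction z using TensorProduct.induction_on with
      | zero => simp
      | tmul a t =>
        rw [Algebra.smul_def, Algebra.TensorProduct.right_algebraMap_apply,
          Algebra.TensorProduct.tmul_mul_tmul, one_mul]
        simp [mul_smul, smul_comm s]
      | add a b ha hb => rw [smul_add, map_add, map_add, ha, hb])

lemma exists_smul_mem {n : N} (h : FlatCA.toFiberMod p S N n = 0) :
    ∃ r : R, r ∉ p ∧ r • n ∈ (p.map (algebraMap R S)) • (⊤ : Submodule S N) := by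
  have h1 : (1 : p.ResidueField) ⊗ₜ[R] n = 0 := by
    have h' := congr_arg (toResTensor p N) (show ((1 : p.Fiber S) ⊗ₜ[S] n : p.Fiber S ⊗[S] N) = 0 from h)
    rw [map_zero] at h'
    rw [← h']
    show _ = LinearMap.lTensor _ _ ((1 : p.ResidueField) ⊗ₜ[R] (1 : S))
    simp
  let Rp := Localization.AtPrime p
  have h2 : (1 : p.ResidueField) ⊗ₜ[Rp] (LocalizedModule.mk n (1 : p.primeCompl)) = 0 := by
    apply_fun (AlgebraTensorModule.cancelBaseChange R Rp p.ResidueField p.ResidueField N).symm at h1
    rw [map_zero, AlgebraTensorModule.cancelBaseChange_symm_tmul] at h1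
    apply_fun LinearMap.lTensor p.ResidueField
      (LocalizedModule.equivTensorProduct p.primeCompl N).symm.toLinearMap at h1
    rw [map_zero, LinearMap.lTensor_tmul] at h1
    rw [← h1]
    congr 1
    simp [LocalizedModule.equivTensorProduct]
  have h3 : LocalizedModule.mk n (1 : p.primeCompl) ∈
      IsLocalRing.maximalIdeal Rp • (⊤ : Submodule Rp (LocalizedModule p.primeCompl N)) := by
    have := (LinearEquiv.map_eq_zero_iff (TensorProduct.quotTensorEquivQuotSMul
      (LocalizedModule p.primeCompl N) (IsLocalRing.maximalIdeal Rp))).mpr h2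
    erw [← map_one (Ideal.Quotient.mk (IsLocalRing.maximalIdeal Rp)),
      TensorProduct.quotTensorEquivQuotSMul_mk_tmul, one_smul] at this
    exact (Submodule.Quotient.mk_eq_zero _).mp this
  let P : Submodule S N := (p.map (algebraMap R S)) • (⊤ : Submodule S N)
  have h4 : ∀ z ∈ IsLocalRing.maximalIdeal Rp • (⊤ : Submodule Rp (LocalizedModule p.primeCompl N)),
      ∃ x ∈ P, ∃ s : p.primeCompl, z = LocalizedModule.mk x s := by
    intro z hz
    refine Submodule.smul_induction_on hz ?_ ?_
    · intro a ha y _
      obtain ⟨⟨a, s⟩, rfl⟩ := IsLocalization.mk'_surjective p.primeCompl a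
      replace ha : a ∈ p := (IsLocalization.AtPrime.mk'_mem_maximal_iff (Localization.AtPrime p) p a s).mp ha
      induction y using LocalizedModule.induction_on with
      | h x t =>
        refine ⟨a • x, ?_, s * t, ?_⟩
        · rw [← IsScalarTower.algebraMap_smul S a x]
          exact Submodule.smul_mem_smul (Ideal.mem_map_of_mem _ ha) trivial
        · rw [← Localization.mk_eq_mk', LocalizedModule.mk_smul_mk]
    · intro a b ha hb
      obtain ⟨x, hx, s, rfl⟩ := ha
      obtain ⟨y, hy, t, rfl⟩ := hb
      refine ⟨t • x + s • y, ?_, s * t, LocalizedModule.mk_add_mk⟩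
      refine add_mem ?_ ?_ <;> rw [Submonoid.smul_def, ← IsScalarTower.algebraMap_smul S] <;>
        exact Submodule.smul_mem _ _ ‹_›
  obtain ⟨x, hx, s, hs⟩ := h4 _ h3
  rw [LocalizedModule.mk_eq] at hs
  obtain ⟨c, hc⟩ := hs
  refine ⟨(c * s : p.primeCompl), (c * s).2, ?_⟩
  have : ((c * s : p.primeCompl) : R) • n = (c : R) • x := by
    simpa [Submonoid.smul_def, mul_smul] using hc
  rw [this, ← IsScalarTower.algebraMap_smul S (c : R) x]
  exact Submodule.smul_mem _ _ hx

lemma toFiberMod_eq_zero_of_mem {n : N} (h : n ∈ (p.map (algebraMap R S)) • (⊤ : Submodule S N)) :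
    FlatCA.toFiberMod p S N n = 0 := by
  refine (Submodule.smul_le.mpr (fun a ha m _ => ?_) h : n ∈ LinearMap.ker (FlatCA.toFiberMod p S N))
  induction ha using Submodule.span_induction with
  | mem a ha =>
    obtain ⟨r, hr, rfl⟩ := ha
    rw [LinearMap.mem_ker]
    show ((1 : p.Fiber S) ⊗ₜ[S] (algebraMap R S r • m) : p.Fiber S ⊗[S] N) = 0
    rw [← TensorProduct.smul_tmul, Algebra.smul_def, mul_one,
      Algebra.TensorProduct.right_algebraMap_apply, Algebra.algebraMap_eq_smul_one,
      ← TensorProduct.smul_tmul, ← Algebra.algebraMap_eq_smul_one,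
      Ideal.algebraMap_residueField_eq_zero.mpr hr, TensorProduct.zero_tmul, TensorProduct.zero_tmul]
  | zero => simp
  | add a b _ _ ha hb => rw [add_smul]; exact add_mem ha hb
  | smul c a _ ha => rw [smul_eq_mul, mul_smul]; exact Submodule.smul_mem _ c ha

lemma exists_smul_eq (x : FlatCA.fiberMod p S N) :
    ∃ r : R, r ∉ p ∧ ∃ n : N, algebraMap R S r • x = FlatCA.toFiberMod p S N n := by
  suffices key : ∀ y : p.Fiber S ⊗[S] N, ∃ r : R, r ∉ p ∧ ∃ n : N,
      algebraMap R S r • y = (1 : p.Fiber S) ⊗ₜ[S] n from key x
  intro y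
  induction y using TensorProduct.induction_on with
  | zero => exact ⟨1, (inferInstance : p.IsPrime).one_notMem, 0, by rw [TensorProduct.tmul_zero, smul_zero]⟩
  | tmul z m =>
    obtain ⟨r, hr, s, hs⟩ := Ideal.Fiber.exists_smul_eq_one_tmul p z
    refine ⟨r, hr, s • m, ?_⟩
    rw [TensorProduct.smul_tmul', ← TensorProduct.smul_tmul, Algebra.smul_def s (1 : p.Fiber S),
      mul_one, Algebra.TensorProduct.right_algebraMap_apply, ← hs, IsScalarTower.algebraMap_smul]
  | add a b ha hb =>
    obtain ⟨r, hr, n, hn⟩ := ha
    obtain ⟨r', hr', n', hn'⟩ := hb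
    refine ⟨r * r', fun h => (Ideal.IsPrime.mem_or_mem ‹_› h).elim hr hr',
      algebraMap R S r' • n + algebraMap R S r • n', ?_⟩
    rw [map_mul, smul_add, TensorProduct.tmul_add, TensorProduct.tmul_smul, TensorProduct.tmul_smul,
      ← hn, ← hn', ← mul_smul, ← mul_smul, mul_comm (algebraMap R S r') (algebraMap R S r)]

end Groth.FibKer
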